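import Cfsg.Agent.RedundantPSL.Basic

/-!
Which Sylow subgroups of PSL(2,q) are redundant.
-/

set_option autoImplicit false

namespace CfsgLib.RedundantPSL

open CfsgLib.Dickson Matrix OnePoint

variable {F : Type*} [Field F]

/-- An element of order `p` lies in a single Sylow subgroup in defining characteristic. -/
theorem not_twice_char [Finite F] (p : ℕ) [Fact p.Prime] [CharP F p] : ¬ Twice p (PSL2 F) := by
  classical
  intro h
  obtain ⟨v, hv⟩ := exists_prime_orderOf_dvd_card' (G := PSL2 F) p (CfsgLib.Linear.PSLTwo.dvd_card p)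
  obtain ⟨P, P', hne, hP, hP'⟩ := h v ⟨1, by rw [pow_one, hv]⟩
  obtain ⟨w, hw⟩ := CfsgLib.Linear.PSLTwo.normalizer_eq_stabilizer p P
  obtain ⟨w', hw'⟩ := CfsgLib.Linear.PSLTwo.normalizer_eq_stabilizer p P'
  have hfw : Matrix.ProjectiveSpecialLinearGroup.toPGL v • w = w := by
    have := Subgroup.le_normalizer (H := (P : Subgroup (PSL2 F))) hP
    rw [hw] at this
    exact this
  have hfw' : Matrix.ProjectiveSpecialLinearGroup.toPGL v • w' = w' := by
    have := Subgroup.le_normalizer (H := (P' : Subgroup (PSL2 F))) hP'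
    rw [hw'] at this
    exact this
  obtain ⟨g, hg⟩ := exists_smul_eq_infty w
  set τ := g * Matrix.ProjectiveSpecialLinearGroup.toPGL v * g⁻¹ with hτ
  have hfix : τ • (∞ : OnePoint F) = ∞ := by rw [hτ, ← hg, mul_smul, mul_smul, inv_smul_smul, hfw]
  obtain ⟨a, ha⟩ := pElement_eq_transl p hfix (k := 1) (by
    rw [pow_one, hτ, conj_pow, ← map_pow, ← hv, pow_orderOf_eq_one, map_one, mul_one, mul_inv_cancel])
  have ha0 : a ≠ 0 := by
    intro h0
    have h1 : Matrix.ProjectiveSpecialLinearGroup.toPGL v = 1 := by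
      simpa [h0, aff_one_zero, hτ, conj_eq_one_iff] using ha
    have h2 : v = 1 := Matrix.ProjectiveSpecialLinearGroup.toPGL_injective (h1.trans (map_one _).symm)
    exact (Fact.out : p.Prime).one_lt.ne (by rw [← hv, h2, orderOf_one])
  have hww : w' = w := by
    have : g • w' ∈ fix τ := by
      show τ • _ = _
      rw [hτ, mul_smul, mul_smul, inv_smul_smul, hfw']
    rw [ha, fix_aff_one ha0, Set.mem_singleton_iff, ← hg] at this
    exact smul_left_cancel g this
  refine hne (Sylow.ext ?_)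
  have hN : Subgroup.normalizer ((P' : Subgroup (PSL2 F)) : Set (PSL2 F)) =
      Subgroup.normalizer ((P : Subgroup (PSL2 F)) : Set (PSL2 F)) := by rw [hw', hw, hww]
  have hp : IsPGroup p ((P : Subgroup (PSL2 F)) ⊔ P' : Subgroup (PSL2 F)) :=
    P.isPGroup'.to_sup_of_normal_left' P'.isPGroup' (Subgroup.le_normalizer.trans hN.le)
  exact (P.is_maximal' hp le_sup_left).symm.trans (P'.is_maximal' hp le_sup_right)

/-- A Sylow subgroup generated by one element. -/
theorem not_twice_cyclic {G : Type*} [Group G] [Finite G] {p : ℕ} [Fact p.Prime] {u : G}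
    (hu : orderOf u = p ^ (Nat.card G).factorization p) : ¬ Twice p G := by
  intro h
  obtain ⟨P, P', hne, hP, hP'⟩ := h u ⟨_, hu⟩
  have key : ∀ R : Sylow p G, u ∈ R → (R : Subgroup G) = Subgroup.zpowers u := fun R hR =>
    (Subgroup.eq_of_le_of_card_ge (Subgroup.zpowers_le.2 hR)
      (by rw [R.card_eq_multiplicity, Nat.card_zpowers, hu])).symm
  exact hne (Sylow.ext ((key P hP).trans (key P' hP').symm))

/-- Odd primes other than the characteristic. -/
theorem not_twice_odd [Finite F] (ℓ : ℕ) [Fact ℓ.Prime] [CharP F ℓ] (p : ℕ) [hp : Fact p.Prime] (hp2 : p ≠ 2)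
    (hpl : p ≠ ℓ) : ¬ Twice p (PSL2 F) := by
  classical
  have := Fintype.ofFinite F
  set q := Nat.card F with hq
  set d := Nat.gcd 2 (q - 1) with hd
  have hq1 : 1 < q := Finite.one_lt_card
  have hd0 : 0 < d := Nat.gcd_pos_of_pos_left _ two_pos
  have hdp : ¬ p ∣ d := fun h =>
    hp2 ((Nat.prime_dvd_prime_iff_eq hp.out Nat.prime_two).1 (h.trans (Nat.gcd_dvd_left _ _)))
  have hqp : ¬ p ∣ q := by
    obtain ⟨n, hl, hn⟩ := FiniteField.card F ℓ
    rw [← Nat.card_eq_fintype_card] at hn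
    rw [hq, hn]
    exact fun h => hpl ((Nat.prime_dvd_prime_iff_eq hp.out hl).1 (hp.out.dvd_of_dvd_pow h))
  obtain ⟨a, ha⟩ := CfsgLib.Linear.PSLTwo.d_dvd_pred (F := F)
  obtain ⟨b, hb⟩ := CfsgLib.Linear.PSLTwo.d_dvd_succ (F := F)
  rw [← hd] at ha hb
  rw [← hq] at ha hb
  have hv : (Nat.card (PSL2 F)).factorization p = a.factorization p + b.factorization p := by
    rw [CfsgLib.Linear.PSLTwo.card_eq, ← hq, ← hd, ha, Nat.mul_div_cancel_left _ hd0, hb]
    rw [Nat.factorization_mul (by omega) (mul_ne_zero (by omega) (by rintro rfl; omega)),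
      Nat.factorization_mul (by omega) (by rintro rfl; omega), Nat.factorization_mul (by omega) (by rintro rfl; omega),
      Finsupp.add_apply, Finsupp.add_apply, Finsupp.add_apply, Nat.factorization_eq_zero_of_not_dvd hqp,
      Nat.factorization_eq_zero_of_not_dvd hdp]
    omega
  have hz : a.factorization p = 0 ∨ b.factorization p = 0 := by
    by_contra hcon
    push Not at hcon
    have h1 : p ∣ q - 1 := ha ▸ (Nat.dvd_of_factorization_pos hcon.1).mul_left d
    have h2 : p ∣ q + 1 := hb ▸ (Nat.dvd_of_factorization_pos hcon.2).mul_left d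
    have := Nat.dvd_sub h2 h1
    rw [show q + 1 - (q - 1) = 2 by omega] at this
    exact hp2 ((Nat.prime_dvd_prime_iff_eq hp.out Nat.prime_two).1 this)
  obtain ⟨g, k, hg, hk0, hk⟩ : ∃ (g : PSL2 F) (k : ℕ), orderOf g = k ∧ k ≠ 0 ∧
      k.factorization p = (Nat.card (PSL2 F)).factorization p := by
    rcases hz with h | h
    · obtain ⟨g, hg⟩ := CfsgLib.PSL2Spec.exists_orderOf_plus (F := F) ℓ
      refine ⟨g, b, ?_, by rintro rfl; omega, by omega⟩
      rw [hg, ← Nat.card_eq_fintype_card, ← hq, ← hd, hb, Nat.mul_div_cancel_left _ hd0]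
    · obtain ⟨g, hg⟩ := CfsgLib.PSL2Spec.exists_orderOf_minus (F := F)
      refine ⟨g, a, ?_, by rintro rfl; omega, by omega⟩
      rw [hg, ← Nat.card_eq_fintype_card, ← hq, ← hd, ha, Nat.mul_div_cancel_left _ hd0]
  obtain ⟨c, hc⟩ := Nat.ordProj_dvd k p
  refine not_twice_cyclic (u := g ^ c) ?_
  rw [orderOf_pow, hg, ← hk]
  conv_lhs => rw [hc]
  rw [Nat.gcd_mul_left_left, Nat.mul_div_cancel _ (Nat.pos_of_ne_zero (by rintro rfl; omega))]

section Two

variable [Fintype F] [Fact (Nat.Prime 2)]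

theorem factorization_card (hodd : Odd (Fintype.card F)) {m : ℕ}
    (hm : 2 * m = if Fintype.card F % 4 = 1 then Fintype.card F - 1 else Fintype.card F + 1) :
    (Nat.card (PSL2 F)).factorization 2 = m.factorization 2 + 1 ∧ m ≠ 0 := by
  classical
  set q := Fintype.card F
  have hq : 1 < q := Fintype.one_lt_card
  obtain ⟨j, hj⟩ := hodd
  have hm0 : m ≠ 0 := by split_ifs at hm <;> omega
  have h := CfsgLib.Linear.PSLTwo.mul_card (F := F)
  rw [CfsgLib.Linear.PSLTwo.gcd_eq_two (by rw [Nat.card_eq_fintype_card]; exact ⟨j, hj⟩),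
    CfsgLib.Linear.PSLTwo.sq_sub_one, Nat.card_eq_fintype_card (α := F)] at h
  obtain ⟨t, ht4, hprod⟩ : ∃ t, t % 4 = 2 ∧ (q - 1) * (q + 1) = 2 * m * t := by
    by_cases h4 : q % 4 = 1
    · rw [if_pos h4] at hm; exact ⟨q + 1, by omega, by rw [hm]⟩
    · rw [if_neg h4] at hm; exact ⟨q - 1, by omega, by rw [hm, mul_comm]⟩
  rw [hprod] at h
  have hc : Nat.card (PSL2 F) = q * (m * t) := by
    have : 2 * Nat.card (PSL2 F) = 2 * (q * (m * t)) := by rw [h]; ring
    omega
  rw [hc, Nat.factorization_mul (by omega) (mul_ne_zero hm0 (by omega)),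
    Nat.factorization_mul hm0 (by omega), Finsupp.add_apply, Finsupp.add_apply,
    Nat.factorization_eq_zero_of_not_dvd (show ¬ 2 ∣ q by omega),
    CfsgLib.PSLTwoHall.factorization_two_of_mod_four ht4, zero_add]
  exact ⟨rfl, hm0⟩

theorem twice_two_iff (hodd : Odd (Fintype.card F)) :
    Twice 2 (PSL2 F) ↔
      ¬ ∃ j : ℕ, (if Fintype.card F % 4 = 1 then Fintype.card F - 1 else Fintype.card F + 1) = 2 ^ j := by
  classical
  obtain ⟨x₀, U, m, hx₀, hx₀1, hx₀U, hUC, hUcyc, hm, hcU, hcC, hinvol, hout⟩ :=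
    CfsgLib.Linear.FourGroups.centralizer_shape hodd
  obtain ⟨hfac, hm0⟩ := factorization_card hodd hm
  set C := Subgroup.centralizer ({x₀} : Set (PSL2 F))
  rw [← hm]
  constructor
  · rintro h ⟨j, hj⟩
    obtain ⟨u, hu⟩ := hUcyc.exists_generator
    have huo : orderOf (u : PSL2 F) = m := by
      rw [Subgroup.orderOf_coe, orderOf_eq_card_of_forall_mem_zpowers hu, hcU]
    obtain ⟨i, -, hi⟩ := (Nat.dvd_prime_pow Nat.prime_two).1 (show m ∣ 2 ^ j from ⟨2, by omega⟩)
    obtain ⟨P, P', hne, hP, hP'⟩ := h u ⟨i, by rw [huo, hi]⟩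
    have key : ∀ R : Sylow 2 (PSL2 F), (u : PSL2 F) ∈ R → (R : Subgroup (PSL2 F)) = C := by
      intro R hR
      have hcR : Nat.card R = 2 * m := by
        rw [R.card_eq_multiplicity, hfac, hi, Nat.prime_two.factorization_pow, Finsupp.single_eq_same, pow_succ']
      have hzU : Subgroup.zpowers (u : PSL2 F) = U := by
        refine Subgroup.eq_of_le_of_card_ge (Subgroup.zpowers_le.2 u.2) ?_
        rw [Nat.card_zpowers, huo, hcU]
      have hUR : U ≤ (R : Subgroup (PSL2 F)) := hzU ▸ Subgroup.zpowers_le.2 hR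
      haveI : (U.subgroupOf (R : Subgroup (PSL2 F))).Normal := Subgroup.normal_of_index_eq_two (by
        have := (U.subgroupOf (R : Subgroup (PSL2 F))).card_mul_index
        rw [Nat.card_congr (Subgroup.subgroupOfEquivOfLe hUR).toEquiv, hcU, hcR] at this
        exact Nat.eq_of_mul_eq_mul_left (Nat.pos_of_ne_zero hm0) (this.trans (mul_comm 2 m)))
      refine Subgroup.eq_of_le_of_card_ge (fun y hy => ?_) (by rw [hcC, hcR])
      rw [Subgroup.mem_centralizer_singleton_iff]
      have h1 := (inferInstance : (U.subgroupOf (R : Subgroup (PSL2 F))).Normal).conj_mem ⟨x₀, hUR hx₀U⟩ hx₀U ⟨y, hy⟩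
      have h2 : y * x₀ * y⁻¹ * (y * x₀ * y⁻¹) = 1 := by
        rw [show y * x₀ * y⁻¹ * (y * x₀ * y⁻¹) = y * (x₀ * x₀) * y⁻¹ by group, hx₀, mul_one, mul_inv_cancel]
      rcases hinvol _ h1 h2 with h3 | h3
      · exact absurd (conj_eq_one_iff.1 h3) hx₀1
      · exact mul_inv_eq_iff_eq_mul.1 h3
    exact hne (Sylow.ext ((key P hP).trans (key P' hP').symm))
  · intro hnp
    have hUle : ∀ c ∈ C, ∀ z ∈ U, c * z * c⁻¹ ∈ U := by
      intro c hc z hz
      by_cases hcu : c ∈ U
      · exact mul_mem (mul_mem hcu hz) (inv_mem hcu)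
      · rw [(hout c hc hcu).2.2 z hz]; exact inv_mem hz
    -- an odd prime divisor of `m`
    obtain ⟨r, hr, hrm, hr2⟩ : ∃ r, r.Prime ∧ r ∣ m ∧ r ≠ 2 := by
      by_contra hcon
      push Not at hcon
      exact hnp ⟨m.primeFactorsList.length + 1, by
        rw [pow_succ', ← Nat.eq_prime_pow_of_unique_prime_dvd hm0 fun {d} hd hdm => hcon d hd hdm]⟩
    obtain ⟨w, hwU, hwo⟩ : ∃ w ∈ U, orderOf w = r := by
      haveI := Fact.mk hr
      obtain ⟨w, hw⟩ := exists_prime_orderOf_dvd_card' (G := U) r (hcU.symm ▸ hrm)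
      exact ⟨w, w.2, by rw [Subgroup.orderOf_coe, hw]⟩
    -- two Sylow subgroups of `C`
    have htwo : ∃ T T' : Sylow 2 C, T ≠ T' := by
      by_contra hcon
      push Not at hcon
      obtain ⟨T⟩ : Nonempty (Sylow 2 C) := inferInstance
      have hTn : ∀ g : C, ∀ y ∈ T, g * y * g⁻¹ ∈ T := fun g y hy => by
        have h1 : g * y * g⁻¹ ∈ g • T := by rw [mem_smul_iff]; simpa [mul_assoc] using hy
        rwa [hcon (g • T) T] at h1
      obtain ⟨c, hcT, hcU'⟩ : ∃ c : C, c ∈ T ∧ (c : PSL2 F) ∉ U := by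
        by_contra hcon'
        push Not at hcon'
        have hle : (T : Subgroup C).map C.subtype ≤ U := by
          rintro _ ⟨c, hc, rfl⟩
          exact hcon' c hc
        have h1 := Subgroup.card_dvd_of_le hle
        rw [Subgroup.card_map_of_injective C.subtype_injective, hcU, T.card_eq_multiplicity, hcC,
          Nat.factorization_mul two_ne_zero hm0, Finsupp.add_apply, Nat.prime_two.factorization_self] at h1
        have h2 := (Nat.prime_two.pow_dvd_iff_le_factorization hm0).1 h1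
        omega
      let wC : C := ⟨w, hUC hwU⟩
      have h1 : wC * c * wC⁻¹ * c⁻¹ ∈ T := mul_mem (hTn wC c hcT) (inv_mem hcT)
      have h2 : ((wC * c * wC⁻¹ * c⁻¹ : C) : PSL2 F) = w ^ 2 := by
        show w * c * w⁻¹ * (c : PSL2 F)⁻¹ = w ^ 2
        rw [show w * c * w⁻¹ * (c : PSL2 F)⁻¹ = w * (c * w⁻¹ * (c : PSL2 F)⁻¹) by group,
          (hout c c.2 hcU').2.2 w⁻¹ (inv_mem hwU), inv_inv, pow_two]
      obtain ⟨n, hn⟩ := IsPGroup.iff_orderOf.1 T.isPGroup' ⟨_, h1⟩
      rw [Subgroup.orderOf_mk, ← Subgroup.orderOf_coe, h2, orderOf_pow, hwo,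
        (Nat.coprime_primes hr Nat.prime_two).2 hr2, Nat.div_one] at hn
      exact hr2 ((Nat.prime_dvd_prime_iff_eq hr Nat.prime_two).1 (hr.dvd_of_dvd_pow (dvd_of_eq hn)))
    -- lifting a Sylow subgroup of `C`
    have hbig : ∀ T : Sylow 2 C, ∃ R : Sylow 2 (PSL2 F), (R : Subgroup (PSL2 F)) = (T : Subgroup C).map C.subtype := by
      intro T
      refine ⟨Sylow.ofCard ((T : Subgroup C).map C.subtype) ?_, rfl⟩
      rw [Subgroup.card_map_of_injective C.subtype_injective, T.card_eq_multiplicity, hcC, hfac,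
        Nat.factorization_mul two_ne_zero hm0, Finsupp.add_apply, Nat.prime_two.factorization_self, add_comm]
    obtain ⟨T, T', hTT⟩ := htwo
    obtain ⟨R, hR⟩ := hbig T
    obtain ⟨R', hR'⟩ := hbig T'
    have hRR : R ≠ R' := fun e => hTT (Sylow.ext (Subgroup.map_injective C.subtype_injective (by rw [← hR, ← hR', e])))
    intro x hx
    obtain ⟨j, hj⟩ := hx
    rcases Nat.eq_zero_or_pos j with rfl | hj0
    · rw [pow_zero, orderOf_eq_one_iff] at hj
      exact ⟨R, R', hRR, hj ▸ one_mem _, hj ▸ one_mem _⟩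
    -- move the involution of `⟨x⟩` to the chosen one
    have hz : x ^ 2 ^ (j - 1) * x ^ 2 ^ (j - 1) = 1 ∧ x ^ 2 ^ (j - 1) ≠ 1 := by
      refine ⟨?_, pow_ne_one_of_lt_orderOf (pow_ne_zero _ two_ne_zero) (hj ▸ Nat.pow_lt_pow_right one_lt_two (by omega))⟩
      rw [← pow_add, ← two_mul, ← pow_succ', Nat.sub_add_cancel hj0, ← hj, pow_orderOf_eq_one]
    obtain ⟨g, hg⟩ := isConj_iff.1 (CfsgLib.Linear.FourGroups.involutions_conj hodd hz.1 hz.2 hx₀ hx₀1)
    set y := g * x * g⁻¹ with hy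
    have hyo : orderOf y = 2 ^ j := by
      rw [hy, show g * x * g⁻¹ = MulAut.conj g x from rfl, MulEquiv.orderOf_eq, hj]
    have hyz : y ^ 2 ^ (j - 1) = x₀ := by rw [hy, conj_pow, hg]
    have hyC : y ∈ C := Subgroup.mem_centralizer_singleton_iff.2 (by
      rw [← hyz]; exact pow_mul_comm' y _ |>.symm)
    have hyU : y ∈ U := by
      by_contra hyU
      have h1 := orderOf_le_of_pow_eq_one (x := y) two_pos (by rw [pow_two]; exact (hout y hyC hyU).1)
      rw [hyo] at h1
      have hj1 : j = 1 := by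
        by_contra hne
        have := Nat.pow_lt_pow_right one_lt_two (show 1 < j by omega)
        omega
      rw [hj1, Nat.sub_self, pow_zero, pow_one] at hyz
      exact hyU (hyz ▸ hx₀U)
    have hyT : ∀ S : Sylow 2 C, (⟨y, hyC⟩ : C) ∈ S := by
      intro S
      haveI : (Subgroup.zpowers (⟨y, hyC⟩ : C)).Normal := by
        refine ⟨?_⟩
        rintro _ ⟨i, rfl⟩ c
        show c * (⟨y, hyC⟩ : C) ^ i * c⁻¹ ∈ Subgroup.zpowers (⟨y, hyC⟩ : C)
        by_cases hcu : (c : PSL2 F) ∈ U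
        · have hcomm : c * (⟨y, hyC⟩ : C) = (⟨y, hyC⟩ : C) * c := Subtype.ext (by
            obtain ⟨u, hu⟩ := hUcyc.exists_generator
            obtain ⟨a, ha⟩ := hu ⟨c, hcu⟩
            obtain ⟨b, hb⟩ := hu ⟨y, hyU⟩
            have e := ((Commute.refl u).zpow_zpow a b).eq
            rw [show u ^ a = _ from ha, show u ^ b = _ from hb] at e
            exact (congrArg Subtype.val e : (c : PSL2 F) * y = y * c))
          rw [(show Commute c (⟨y, hyC⟩ : C) from hcomm).zpow_right i |>.eq, mul_inv_cancel_right]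
          exact Subgroup.zpow_mem_zpowers _ i
        · have : c * (⟨y, hyC⟩ : C) * c⁻¹ = (⟨y, hyC⟩ : C)⁻¹ := Subtype.ext ((hout c c.2 hcu).2.2 y hyU)
          rw [← conj_zpow, this, _root_.inv_zpow]
          exact inv_mem (Subgroup.zpow_mem_zpowers _ i)
      refine (S.is_maximal' (S.isPGroup'.to_sup_of_normal_right (IsPGroup.of_card (n := j) (G := Subgroup.zpowers (⟨y, hyC⟩ : C)) ?_)) le_sup_left).le
        (Subgroup.mem_sup_right (Subgroup.mem_zpowers _))
      rw [Nat.card_zpowers, Subgroup.orderOf_mk, hyo]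
    refine ⟨g⁻¹ • R, g⁻¹ • R', fun e => hRR (MulAction.injective g⁻¹ e), ?_, ?_⟩ <;>
      rw [mem_smul_iff, inv_inv]
    · exact hR.ge ⟨_, hyT T, rfl⟩
    · exact hR'.ge ⟨_, hyT T', rfl⟩

end Two

/-- The classification of redundant Sylow subgroups of `PSL(2,q)`. -/
theorem twice_psl_iff [Fintype F] (p : ℕ) [Fact p.Prime] :
    Twice p (PSL2 F) ↔ (p = 2 ∧ (¬ ∃ k : ℕ, Fintype.card F + 1 = 2 ^ k) ∧ (¬ ∃ k : ℕ, Fintype.card F = 2 ^ k) ∧
      ¬ ∃ k : ℕ, Fintype.card F = 2 ^ k + 1) := by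
  classical
  obtain ⟨ℓ, hℓ⟩ := CharP.exists F
  obtain ⟨n, hl, hn⟩ := FiniteField.card F ℓ
  haveI := Fact.mk hl
  set q := Fintype.card F
  by_cases hp2 : p = 2
  · subst hp2
    by_cases hl2 : ℓ = 2
    · subst hl2
      exact iff_of_false (not_twice_char 2) fun h => h.2.2.1 ⟨n, hn⟩
    have hodd : Odd q := hn ▸ (hl.odd_of_ne_two hl2).pow
    rw [twice_two_iff hodd, eq_self_iff_true, true_and]
    have hq : 1 < q := Fintype.one_lt_card
    obtain ⟨j, hj⟩ := hodd
    have hpar : ∀ k : ℕ, 2 ≤ k → 2 ^ k % 4 = 0 := fun k hk =>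
      Nat.mod_eq_zero_of_dvd (by simpa using Nat.pow_dvd_pow 2 hk)
    constructor
    · intro h
      refine ⟨?_, ?_, ?_⟩
      · rintro ⟨k, hk⟩
        refine h ⟨k, ?_⟩
        rcases Nat.lt_or_ge k 2 with hk2 | hk2
        · interval_cases k <;> omega
        · have := hpar k hk2
          rw [if_neg (by omega)]
          exact hk
      · rintro ⟨k, hk⟩
        rcases Nat.eq_zero_or_pos k with rfl | hk0
        · omega
        · have : 2 ∣ 2 ^ k := dvd_pow_self 2 hk0.ne'
          omega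
      · rintro ⟨k, hk⟩
        rcases Nat.lt_or_ge k 2 with hk2 | hk2
        · -- q ≤ 3
          refine h ⟨2, ?_⟩
          interval_cases k
          · omega
          · rw [if_neg (by omega)]; omega
        · have := hpar k hk2
          exact h ⟨k, by rw [if_pos (by omega)]; omega⟩
    · rintro ⟨h1, -, h3⟩ ⟨k, hk⟩
      split_ifs at hk
      · exact h3 ⟨k, by omega⟩
      · exact h1 ⟨k, hk⟩
  · refine iff_of_false ?_ fun h => hp2 h.1
    by_cases hpl : p = ℓ
    · subst hpl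
      exact not_twice_char p
    · exact not_twice_odd ℓ p hp2 hpl

end CfsgLib.RedundantPSL
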