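import Cfsg.Agent.Classical.PSLTwoFour
import Cfsg.Agent.PSLTwoHall.Basic

/-!
Redundant Sylow subgroups of SL(2,q) and PSL(2,q).
-/

set_option autoImplicit false

namespace CfsgLib.RedundantPSL

variable {G : Type*} [Group G] {p : ℕ}

/-- Every `p`-element lies in at least two Sylow subgroups. -/
def Twice (p : ℕ) (G : Type*) [Group G] : Prop :=
  ∀ x : G, (∃ k : ℕ, orderOf x = p ^ k) → ∃ P P' : Sylow p G, P ≠ P' ∧ x ∈ P ∧ x ∈ P'

theorem mem_smul_iff {g x : G} {P : Sylow p G} : x ∈ g • P ↔ g⁻¹ * x * g ∈ P := by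
  show x ∈ ((g • P : Sylow p G) : Subgroup G) ↔ _
  rw [Sylow.coe_subgroup_smul, Subgroup.mem_pointwise_smul_iff_inv_smul_mem]
  simp only [MulAut.smul_def, MulAut.inv_def, MulAut.conj_symm_apply]
  rfl

theorem redundant_iff [Finite G] [Fact p.Prime] :
    (∃ Q : Sylow p G, ∀ x : G, (∃ k : ℕ, orderOf x = p ^ k) → ∃ P : Sylow p G, P ≠ Q ∧ x ∈ P) ↔ Twice p G := by
  constructor
  · rintro ⟨Q, hQ⟩ x hx
    by_contra hcon
    push Not at hcon
    obtain ⟨P, -, hP⟩ := hQ x hx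
    obtain ⟨g, hg⟩ := MulAction.exists_smul_eq G P Q
    have hx' : ∃ k : ℕ, orderOf (g * x * g⁻¹) = p ^ k := by
      obtain ⟨k, hk⟩ := hx
      exact ⟨k, by rw [show g * x * g⁻¹ = MulAut.conj g x from rfl, MulEquiv.orderOf_eq, hk]⟩
    obtain ⟨P', hne, hP'⟩ := hQ _ hx'
    refine hcon P (g⁻¹ • P') ?_ hP ?_
    · intro h
      exact hne (by rw [← hg, h, smul_inv_smul])
    · rw [mem_smul_iff, inv_inv]
      exact hP'
  · intro h
    obtain ⟨Q⟩ : Nonempty (Sylow p G) := inferInstance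
    refine ⟨Q, fun x hx => ?_⟩
    obtain ⟨P, P', hne, hP, hP'⟩ := h x hx
    by_cases hQ : P = Q
    · exact ⟨P', fun h' => hne (hQ.trans h'.symm), hP'⟩
    · exact ⟨P, hQ, hP⟩

section Central

variable {H : Type*} [Group H]

theorem sup_ker_le_normalizer (f : G →* H) (hf : f.ker ≤ Subgroup.center G) (P : Sylow p G) :
    (P : Subgroup G) ⊔ f.ker ≤ Subgroup.normalizer ((P : Subgroup G) : Set G) :=
  sup_le Subgroup.le_normalizer fun k hk => Subgroup.mem_normalizer_iff.2 fun y => by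
    rw [show k * y * k⁻¹ = y by rw [← Subgroup.mem_center_iff.1 (hf hk) y, mul_inv_cancel_right]]

theorem mem_of_map_mem [Fact p.Prime] (f : G →* H) (hf : f.ker ≤ Subgroup.center G) (P : Sylow p G) {x : G}
    (hx : ∃ k : ℕ, orderOf x = p ^ k) (h : f x ∈ (P : Subgroup G).map f) : x ∈ P := by
  obtain ⟨y, hy, hxy⟩ := h
  have hxs : x ∈ (P : Subgroup G) ⊔ f.ker := by
    rw [show x = y * (y⁻¹ * x) by group]
    exact mul_mem (Subgroup.mem_sup_left hy) (Subgroup.mem_sup_right (by simp [hxy]))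
  obtain ⟨n, hn⟩ := hx
  have hp : IsPGroup p ((P : Subgroup G) ⊔ Subgroup.zpowers x : Subgroup G) := by
    refine (P.isPGroup'.to_sup_of_normal_left' (IsPGroup.of_card (n := n) (by rw [Nat.card_zpowers, hn])) ?_)
    rw [Subgroup.zpowers_le]
    exact sup_ker_le_normalizer f hf P hxs
  exact (P.is_maximal' hp le_sup_left).le (Subgroup.mem_sup_right (Subgroup.mem_zpowers x))

theorem twice_iff [Finite G] [Finite H] [Fact p.Prime] (f : G →* H) (hs : Function.Surjective f)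
    (hf : f.ker ≤ Subgroup.center G) : Twice p G ↔ Twice p H := by
  have hinj : ∀ P P' : Sylow p G, P.mapSurjective hs = P'.mapSurjective hs → P = P' := by
    intro P P' h
    have h' : (P : Subgroup G).map f = (P' : Subgroup G).map f := by
      rw [← Sylow.coe_mapSurjective hs, ← Sylow.coe_mapSurjective hs, h]
    refine Sylow.ext (le_antisymm (fun y hy => ?_) fun y hy => ?_)
    · obtain ⟨k, hk⟩ := IsPGroup.iff_orderOf.1 P.isPGroup' ⟨y, hy⟩
      exact mem_of_map_mem f hf P' ⟨k, by rwa [Subgroup.orderOf_mk] at hk⟩ (h' ▸ Subgroup.mem_map_of_mem f hy)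
    · obtain ⟨k, hk⟩ := IsPGroup.iff_orderOf.1 P'.isPGroup' ⟨y, hy⟩
      exact mem_of_map_mem f hf P ⟨k, by rwa [Subgroup.orderOf_mk] at hk⟩ (h'.symm ▸ Subgroup.mem_map_of_mem f hy)
  constructor
  · intro h z hz
    obtain ⟨Q₀⟩ : Nonempty (Sylow p G) := inferInstance
    obtain ⟨R, hR⟩ : ∃ R : Sylow p H, z ∈ R := by
      obtain ⟨k, hk⟩ := hz
      obtain ⟨R, hR⟩ := (IsPGroup.of_card (p := p) (n := k) (G := Subgroup.zpowers z)
        (by rw [Nat.card_zpowers, hk])).exists_le_sylow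
      exact ⟨R, hR (Subgroup.mem_zpowers z)⟩
    obtain ⟨S, rfl⟩ := (Sylow.mapSurjective_surjective hs p) R
    have hR' : z ∈ (S : Subgroup G).map f := by rw [← Sylow.coe_mapSurjective hs]; exact hR
    obtain ⟨x, hx, rfl⟩ := hR'
    obtain ⟨k, hk⟩ := IsPGroup.iff_orderOf.1 S.isPGroup' ⟨x, hx⟩
    obtain ⟨P, P', hne, hP, hP'⟩ := h x ⟨k, by rwa [Subgroup.orderOf_mk] at hk⟩
    have hin : ∀ T : Sylow p G, x ∈ T → f x ∈ T.mapSurjective hs := fun T hT => by
      show f x ∈ ((T.mapSurjective hs : Sylow p H) : Subgroup H)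
      rw [Sylow.coe_mapSurjective]
      exact Subgroup.mem_map_of_mem f hT
    exact ⟨P.mapSurjective hs, P'.mapSurjective hs, fun e => hne (hinj _ _ e), hin P hP, hin P' hP'⟩
  · intro h x hx
    obtain ⟨k, hk⟩ := hx
    obtain ⟨R, R', hne, hR, hR'⟩ := h (f x) (by
      obtain ⟨j, -, hj⟩ := (Nat.dvd_prime_pow Fact.out).1 (hk ▸ orderOf_map_dvd f x)
      exact ⟨j, hj⟩)
    obtain ⟨P, rfl⟩ := (Sylow.mapSurjective_surjective hs p) R
    obtain ⟨P', rfl⟩ := (Sylow.mapSurjective_surjective hs p) R'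
    refine ⟨P, P', fun e => hne (e ▸ rfl), mem_of_map_mem f hf P ⟨k, hk⟩ ?_, mem_of_map_mem f hf P' ⟨k, hk⟩ ?_⟩
    · rw [← Sylow.coe_mapSurjective hs]; exact hR
    · rw [← Sylow.coe_mapSurjective hs]; exact hR'

end Central

end CfsgLib.RedundantPSL
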